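import Mathlib.FieldTheory.RatFunc.AsPolynomial
import Mathlib.FieldTheory.IsAlgClosed.AlgebraicClosure
import Mathlib.Algebra.MvPolynomial.Equiv
import Mathlib.RingTheory.Localization.FractionRing

/-!
# The functional equation `F (x + y F x) = F x * F y`
-/

set_option autoImplicit false

namespace Groth.Agent.RatFun6

open Polynomial

theorem ratFunc_map_eval {k L M : Type} [Field k] [Field L] [Field M] (h : L →+* M) (f : k →+* L) (a : L)
    (F : RatFunc k) : h (RatFunc.eval f a F) = RatFunc.eval (h.comp f) (h a) F := by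
  simp [RatFunc.eval, Polynomial.hom_eval₂]

theorem eq_one_add (k : Type) [Field k] (F : RatFunc k)
    (h0 : F.denom.eval 0 ≠ 0) (h1 : F.num.eval 0 = F.denom.eval 0)
    (hFE : RatFunc.eval (algebraMap k (FractionRing (MvPolynomial (Fin 2) k)))
        (algebraMap (MvPolynomial (Fin 2) k) (FractionRing (MvPolynomial (Fin 2) k)) (MvPolynomial.X 0) +
          algebraMap (MvPolynomial (Fin 2) k) (FractionRing (MvPolynomial (Fin 2) k)) (MvPolynomial.X 1) *
            RatFunc.eval (algebraMap k (FractionRing (MvPolynomial (Fin 2) k)))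
              (algebraMap (MvPolynomial (Fin 2) k) (FractionRing (MvPolynomial (Fin 2) k)) (MvPolynomial.X 0)) F) F =
      RatFunc.eval (algebraMap k (FractionRing (MvPolynomial (Fin 2) k)))
          (algebraMap (MvPolynomial (Fin 2) k) (FractionRing (MvPolynomial (Fin 2) k)) (MvPolynomial.X 0)) F *
        RatFunc.eval (algebraMap k (FractionRing (MvPolynomial (Fin 2) k)))
          (algebraMap (MvPolynomial (Fin 2) k) (FractionRing (MvPolynomial (Fin 2) k)) (MvPolynomial.X 1)) F) :
    ∃ a : k, F = 1 + RatFunc.C a * RatFunc.X := by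
  classical
  let ι : k →+* (AlgebraicClosure k) := algebraMap k (AlgebraicClosure k)
  let φ : MvPolynomial (Fin 2) k →ₐ[k] k[X][X] := MvPolynomial.aeval ![Polynomial.C Polynomial.X, Polynomial.X]
  let ψ : k[X][X] →+* MvPolynomial (Fin 2) k :=
    Polynomial.eval₂RingHom (Polynomial.aeval (MvPolynomial.X (0 : Fin 2))).toRingHom (MvPolynomial.X 1)
  have hψ : ψ.comp φ.toRingHom = RingHom.id _ := by
    apply MvPolynomial.ringHom_ext
    · intro a
      simp [φ, ψ, MvPolynomial.algebraMap_eq]
    · intro i
      fin_cases i <;> simp [φ, ψ]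
  have hφ : Function.Injective φ := fun p q hpq => by
    rw [← RingHom.id_apply p, ← RingHom.id_apply q, ← hψ]
    exact congrArg ψ hpq
  let j : k[X] →+* (RatFunc (AlgebraicClosure k)) := (algebraMap (AlgebraicClosure k)[X] (RatFunc (AlgebraicClosure k))).comp (Polynomial.mapRingHom ι)
  have hj : Function.Injective j :=
    (RatFunc.algebraMap_injective (AlgebraicClosure k)).comp (Polynomial.map_injective ι ι.injective)
  let g : MvPolynomial (Fin 2) k →+* (FractionRing (RatFunc (AlgebraicClosure k))[X]) :=
    ((algebraMap (RatFunc (AlgebraicClosure k))[X] (FractionRing (RatFunc (AlgebraicClosure k))[X])).comp (Polynomial.mapRingHom j)).comp φ.toRingHom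
  have hg : Function.Injective g :=
    (((IsFractionRing.injective (RatFunc (AlgebraicClosure k))[X] (FractionRing (RatFunc (AlgebraicClosure k))[X]))).comp (Polynomial.map_injective j hj)).comp hφ
  let h : FractionRing (MvPolynomial (Fin 2) k) →+* (FractionRing (RatFunc (AlgebraicClosure k))[X]) := IsFractionRing.lift hg
  have hh : ∀ p, h (algebraMap _ _ p) = g p := IsFractionRing.lift_algebraMap hg
  let ι' : k →+* (RatFunc (AlgebraicClosure k)) := j.comp Polynomial.C
  let x : (RatFunc (AlgebraicClosure k)) := RatFunc.X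
  have hx0 : h (algebraMap (MvPolynomial (Fin 2) k) _ (MvPolynomial.X 0)) = algebraMap (RatFunc (AlgebraicClosure k))[X] (FractionRing (RatFunc (AlgebraicClosure k))[X]) (Polynomial.C x) := by
    rw [hh]
    simp [g, φ, j, x, RatFunc.algebraMap_X]
  have hx1 : h (algebraMap (MvPolynomial (Fin 2) k) _ (MvPolynomial.X 1)) = algebraMap (RatFunc (AlgebraicClosure k))[X] (FractionRing (RatFunc (AlgebraicClosure k))[X]) Polynomial.X := by
    rw [hh]
    simp [g, φ]
  have hc : h.comp (algebraMap k (FractionRing (MvPolynomial (Fin 2) k))) =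
      (algebraMap (RatFunc (AlgebraicClosure k))[X] (FractionRing (RatFunc (AlgebraicClosure k))[X])).comp (Polynomial.C.comp ι') := by
    refine RingHom.ext fun a => ?_
    rw [RingHom.comp_apply, IsScalarTower.algebraMap_apply k (MvPolynomial (Fin 2) k), hh]
    simp [g, φ, ι', MvPolynomial.algebraMap_eq]
  set n := F.num
  set d := F.denom
  have hd0 : d ≠ 0 := F.denom_ne_zero
  have hn0 : n ≠ 0 := fun e => h0 (by rw [← h1, e, eval_zero])
  have hev : ∀ (p : k[X]) (q : (RatFunc (AlgebraicClosure k))[X]),
      p.eval₂ ((algebraMap (RatFunc (AlgebraicClosure k))[X] (FractionRing (RatFunc (AlgebraicClosure k))[X])).comp (Polynomial.C.comp ι')) (algebraMap (RatFunc (AlgebraicClosure k))[X] (FractionRing (RatFunc (AlgebraicClosure k))[X]) q) =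
        algebraMap (RatFunc (AlgebraicClosure k))[X] (FractionRing (RatFunc (AlgebraicClosure k))[X]) ((p.map ι').comp q) := fun p q => by
    rw [← Polynomial.hom_eval₂, Polynomial.comp, Polynomial.eval₂_map]
  have hι'x : ∀ p : k[X], (p.map ι').eval x = j p := fun p => by
    rw [Polynomial.eval_map]
    have : j p = p.eval₂ (j.comp Polynomial.C) (j Polynomial.X) := by
      rw [← Polynomial.hom_eval₂, Polynomial.eval₂_C_X]
    rw [this]
    simp [j, x, ι', RatFunc.algebraMap_X]
  have hjn : j n ≠ 0 := fun e => hn0 (hj (e.trans (map_zero j).symm))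
  have hjd : j d ≠ 0 := fun e => hd0 (hj (e.trans (map_zero j).symm))
  let c : (RatFunc (AlgebraicClosure k)) := j n / j d
  have hc0 : c ≠ 0 := div_ne_zero hjn hjd
  have heval : RatFunc.eval ((algebraMap (RatFunc (AlgebraicClosure k))[X] (FractionRing (RatFunc (AlgebraicClosure k))[X])).comp (Polynomial.C.comp ι')) (algebraMap (RatFunc (AlgebraicClosure k))[X] (FractionRing (RatFunc (AlgebraicClosure k))[X]) (Polynomial.C x)) F =
      algebraMap (RatFunc (AlgebraicClosure k))[X] (FractionRing (RatFunc (AlgebraicClosure k))[X]) (Polynomial.C c) := by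
    show n.eval₂ _ _ / d.eval₂ _ _ = _
    rw [hev, hev, Polynomial.comp_C, Polynomial.comp_C, hι'x, hι'x]
    have hnd : Polynomial.C c * Polynomial.C (j d) = Polynomial.C (j n) := by
      rw [← Polynomial.C_mul, div_mul_cancel₀ _ hjd]
    have hd' : algebraMap (RatFunc (AlgebraicClosure k))[X] (FractionRing (RatFunc (AlgebraicClosure k))[X]) (Polynomial.C (j d)) ≠ 0 :=
      fun e => hjd (Polynomial.C_eq_zero.1 ((IsFractionRing.injective _ _) (e.trans (map_zero _).symm)))
    rw [div_eq_iff hd', ← map_mul, hnd]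
  let Z : (RatFunc (AlgebraicClosure k))[X] := Polynomial.C x + Polynomial.C c * Polynomial.X
  have hFE' := congrArg h hFE
  rw [map_mul, ratFunc_map_eval, ratFunc_map_eval, ratFunc_map_eval, map_add, map_mul, ratFunc_map_eval,
    hx0, hx1, hc, heval, ← map_mul, ← map_add, mul_comm Polynomial.X (Polynomial.C c)] at hFE'
  simp only [RatFunc.eval] at hFE'
  rw [hev, hev, hev, hev] at hFE'
  rw [Polynomial.comp_X, Polynomial.comp_X] at hFE'
  have hZ : ((d.map ι').comp Z) ≠ 0 := by
    intro e
    rcases Polynomial.comp_eq_zero_iff.1 e with e | ⟨-, e⟩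
    · exact (Polynomial.map_ne_zero hd0) e
    · have := congrArg (fun p : (RatFunc (AlgebraicClosure k))[X] => p.coeff 1) e
      simp [Z] at this
      exact hc0 this
  have key : (n.map ι').comp Z * d.map ι' = Polynomial.C c * n.map ι' * (d.map ι').comp Z := by
    apply (IsFractionRing.injective (RatFunc (AlgebraicClosure k))[X] (FractionRing (RatFunc (AlgebraicClosure k))[X]))
    have hdy : algebraMap (RatFunc (AlgebraicClosure k))[X] (FractionRing (RatFunc (AlgebraicClosure k))[X]) (d.map ι') ≠ 0 :=
      fun e => Polynomial.map_ne_zero hd0 ((IsFractionRing.injective (RatFunc (AlgebraicClosure k))[X] (FractionRing (RatFunc (AlgebraicClosure k))[X])) (e.trans (map_zero _).symm))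
    have hdz : algebraMap (RatFunc (AlgebraicClosure k))[X] (FractionRing (RatFunc (AlgebraicClosure k))[X]) ((d.map ι').comp Z) ≠ 0 :=
      fun e => hZ ((IsFractionRing.injective (RatFunc (AlgebraicClosure k))[X] (FractionRing (RatFunc (AlgebraicClosure k))[X])) (e.trans (map_zero _).symm))
    replace hFE' := (div_eq_div_iff hdz hdy).1 (hFE'.trans (mul_div_assoc _ _ _).symm)
    rw [map_mul, map_mul, map_mul]
    exact hFE'
  -- roots
  let ιK : AlgebraicClosure k →+* (RatFunc (AlgebraicClosure k)) := algebraMap (AlgebraicClosure k) (RatFunc (AlgebraicClosure k))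
  have hι'E : ι' = ιK.comp ι := by
    refine RingHom.ext fun a => ?_
    simp [ι', ιK, j, RatFunc.algebraMap_C]
  have hcop : IsCoprime (n.map ι) (d.map ι) := F.isCoprime_num_denom.map (Polynomial.mapRingHom ι)
  have hroot : ∀ (p : k[X]), p ≠ 0 → ∀ z : (RatFunc (AlgebraicClosure k)), (p.map ι').eval z = 0 → ∃ a : (AlgebraicClosure k), z = ιK a := by
    intro p hp z hz
    rw [hι'E, ← Polynomial.map_map] at hz
    have hmem : z ∈ ((p.map ι).map ιK).roots :=
      (Polynomial.mem_roots (Polynomial.map_ne_zero (Polynomial.map_ne_zero hp))).2 hz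
    rw [(IsAlgClosed.splits (p.map ι)).roots_map, Multiset.mem_map] at hmem
    obtain ⟨a, -, rfl⟩ := hmem
    exact ⟨a, rfl⟩
  have hevE : ∀ (p : k[X]) (r : (AlgebraicClosure k)), (p.map ι').eval (ιK r) = ιK ((p.map ι).eval r) := fun p r => by
    rw [hι'E, ← Polynomial.map_map, Polynomial.eval_map, Polynomial.eval₂_at_apply]
  have hne : ∀ r : (AlgebraicClosure k), (n.map ι).eval r = 0 → (d.map ι).eval r = 0 → False := by
    intro r hr hr'
    obtain ⟨u, v, huv⟩ := hcop
    have := congrArg (Polynomial.eval r) huv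
    rw [eval_add, eval_mul, eval_mul, hr, hr', mul_zero, mul_zero, add_zero, eval_one] at this
    exact zero_ne_one this
  have main : d = 1 ∧ n.natDegree ≤ 1 := by
    by_cases hdeg : n.natDegree = 0 ∧ d.natDegree = 0
    · exact ⟨Polynomial.eq_one_of_monic_natDegree_zero F.monic_denom hdeg.2, by omega⟩
    obtain ⟨r, hr⟩ : ∃ r : (AlgebraicClosure k), (n.map ι).eval r = 0 ∨ (d.map ι).eval r = 0 := by
      rcases not_and_or.1 hdeg with hh | hh
      · obtain ⟨r, hr⟩ := IsAlgClosed.exists_root (n.map ι) (by
          rw [Polynomial.degree_map, Polynomial.degree_eq_natDegree hn0]; exact_mod_cast hh)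
        exact ⟨r, Or.inl hr⟩
      · obtain ⟨r, hr⟩ := IsAlgClosed.exists_root (d.map ι) (by
          rw [Polynomial.degree_map, Polynomial.degree_eq_natDegree hd0]; exact_mod_cast hh)
        exact ⟨r, Or.inr hr⟩
    have hr0 : r ≠ 0 := by
      rintro rfl
      rw [← map_zero ι, Polynomial.eval_map, Polynomial.eval₂_at_apply, Polynomial.eval_map,
        Polynomial.eval₂_at_apply, h1, or_self] at hr
      exact h0 (ι.injective hr)
    have hk := congrArg (Polynomial.eval (ιK r)) key
    simp only [eval_mul, eval_comp, eval_C, Z, eval_add, eval_X, hevE] at hk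
    obtain ⟨a, ha⟩ : ∃ a : (AlgebraicClosure k), x + c * ιK r = ιK a := by
      rcases hr with hr | hr
      · refine hroot n hn0 _ ?_
        rw [hr, map_zero, mul_zero, zero_mul, mul_eq_zero] at hk
        exact hk.resolve_right fun e => hne r hr ((map_eq_zero ιK).1 e)
      · refine hroot d hd0 _ ?_
        rw [hr, map_zero, mul_zero, eq_comm, mul_eq_zero, mul_eq_zero] at hk
        exact hk.resolve_left fun e => e.elim hc0 fun e => hne r ((map_eq_zero ιK).1 e) hr
    have heq : n.map ι * Polynomial.C r = d.map ι * (Polynomial.C a - Polynomial.X) := by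
      apply RatFunc.algebraMap_injective (AlgebraicClosure k)
      have h2 : j n * ιK r = j d * (ιK a - x) := by
        rw [← ha, add_sub_cancel_left, ← mul_assoc, mul_div_cancel₀ _ hjd]
      rw [map_mul, map_mul, map_sub, RatFunc.algebraMap_X]
      simpa [j, ιK, x, RatFunc.algebraMap_C] using h2
    have hu : IsUnit (Polynomial.C r) := Polynomial.isUnit_C.2 (isUnit_iff_ne_zero.2 hr0)
    have hdu : IsUnit (d.map ι) := isUnit_of_dvd_unit (hcop.symm.dvd_of_dvd_mul_left ⟨_, heq⟩) hu
    have hd1 : d = 1 := Polynomial.eq_one_of_monic_natDegree_zero F.monic_denom (by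
      rw [← Polynomial.natDegree_map ι]
      exact Polynomial.natDegree_eq_zero_of_isUnit hdu)
    refine ⟨hd1, ?_⟩
    rw [hd1, Polynomial.map_one, one_mul] at heq
    have := congrArg Polynomial.natDegree heq
    rw [Polynomial.natDegree_mul_C hr0, Polynomial.natDegree_map] at this
    rw [this]
    exact (Polynomial.natDegree_sub_le _ _).trans (by simp)
  obtain ⟨hd1, hn1⟩ := main
  refine ⟨n.coeff 1, ?_⟩
  have hn : n = Polynomial.C (n.coeff 1) * Polynomial.X + Polynomial.C (n.coeff 0) :=
    Polynomial.eq_X_add_C_of_natDegree_le_one hn1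
  have h00 : n.coeff 0 = 1 := by
    rw [Polynomial.coeff_zero_eq_eval_zero, h1, hd1, eval_one]
  have hF : algebraMap k[X] (RatFunc k) n = F := by
    conv_rhs => rw [← F.num_div_denom]
    rw [show F.denom = 1 from hd1, map_one, div_one]
  conv_lhs => rw [← hF, hn, h00]
  simp [RatFunc.algebraMap_X, RatFunc.algebraMap_C, add_comm]

end Groth.Agent.RatFun6
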